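import Cfsg.Agent.H10.HeT.LData

set_option autoImplicit false
set_option linter.all false

namespace Cfsg.Agent.H10.HeT

open Cfsg.Agent.H35 Cfsg.Spor Cfsg.Agent.H10

theorem hl_lvlA : allR (fun p => lvlOK t1683_pd hl_lab 0 hl_wsA 1 p) 2058 12 0 = true := by decide +kernel
theorem hl_fixA : fixOK t1683_pd hl_wsA [0] = true := by decide +kernel
theorem hl_cntA : cntR (fun p => Nat.ble 1 (fld 16 (hl_lab p) 0)) 2058 12 0 = 1360 := by decide +kernel
theorem hl_lvlB : allR (fun p => lvlOK t1683_pd hl_lab 2 hl_wsB 2 p) 2058 12 0 = true := by decide +kernel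
theorem hl_fixB : fixOK t1683_pd hl_wsB [0] = true := by decide +kernel
theorem hl_cntB : cntR (fun p => Nat.ble 1 (fld 16 (hl_lab p) 2)) 2058 12 0 = 425 := by decide +kernel
theorem hl_lvlC : allR (fun p => lvlOK t1683_pd hl_lab 4 hl_wsC 46 p) 2058 12 0 = true := by decide +kernel
theorem hl_fixC : fixOK t1683_pd hl_wsC [0] = true := by decide +kernel
theorem hl_cntC : cntR (fun p => Nat.ble 1 (fld 16 (hl_lab p) 4)) 2058 12 0 = 136 := by decide +kernel
theorem hl_lvlD : allR (fun p => lvlOK t1683_pd hl_lab 6 hl_wsD 65 p) 2058 12 0 = true := by decide +kernel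
theorem hl_fixD : fixOK t1683_pd hl_wsD [0] = true := by decide +kernel
theorem hl_cntD : cntR (fun p => Nat.ble 1 (fld 16 (hl_lab p) 6)) 2058 12 0 = 136 := by decide +kernel
theorem hl_lvl3 : allR (fun p => lvlOK t1683_pd hl_lab 8 hl_ws3 15 p) 2058 12 0 = true := by decide +kernel
theorem hl_fix3 : fixOK t1683_pd hl_ws3 [0, 1] = true := by decide +kernel
theorem hl_cnt3 : cntR (fun p => Nat.ble 1 (fld 16 (hl_lab p) 8)) 2058 12 0 = 360 := by decide +kernel
theorem hl_lvl4 : allR (fun p => lvlOK t1683_pd hl_lab 10 hl_ws4 34 p) 2058 12 0 = true := by decide +kernel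
theorem hl_fix4 : fixOK t1683_pd hl_ws4 [0, 1, 15] = true := by decide +kernel
theorem hl_cnt4 : cntR (fun p => Nat.ble 1 (fld 16 (hl_lab p) 10)) 2058 12 0 = 4 := by decide +kernel
noncomputable def hl_colf (p : ℕ) : ℕ := cond (Nat.ble 1 (fld 16 (hl_lab p) 0)) 1 (cond (Nat.ble 1 (fld 16 (hl_lab p) 2)) 2 (cond (Nat.ble 1 (fld 16 (hl_lab p) 4)) 3 (cond (Nat.ble 1 (fld 16 (hl_lab p) 6)) 4 0)))
theorem hl_col0 : hl_colf 0 = 0 := by decide +kernel
theorem hl_colne : allR (fun p => Nat.beq p 0 || Nat.ble 1 (hl_colf p)) 2058 12 0 = true := by decide +kernel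
theorem hl_colcnt1 : cntR (fun p => Nat.beq (hl_colf p) 1) 2058 12 0 = 1360 := by decide +kernel
theorem hl_colcnt2 : cntR (fun p => Nat.beq (hl_colf p) 2) 2058 12 0 = 425 := by decide +kernel
theorem hl_colcnt3 : cntR (fun p => Nat.beq (hl_colf p) 3) 2058 12 0 = 136 := by decide +kernel
theorem hl_colcnt4 : cntR (fun p => Nat.beq (hl_colf p) 4) 2058 12 0 = 136 := by decide +kernel

end Cfsg.Agent.H10.HeT
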