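import Cfsg.Agent.H10.HeT.LData

set_option autoImplicit false
set_option linter.all false

namespace Cfsg.Agent.H10.HeT

open Cfsg.Agent.H35 Cfsg.Spor Cfsg.Agent.H10

theorem hl_pow2_b0 : allR hl_pf2 2058 8 (0 * 2 ^ 8) = true := by decide +kernel
theorem hl_pow2_b1 : allR hl_pf2 2058 8 (1 * 2 ^ 8) = true := by decide +kernel
theorem hl_pow2_b2 : allR hl_pf2 2058 8 (2 * 2 ^ 8) = true := by decide +kernel
theorem hl_pow2_b3 : allR hl_pf2 2058 8 (3 * 2 ^ 8) = true := by decide +kernel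
theorem hl_pow2_b4 : allR hl_pf2 2058 8 (4 * 2 ^ 8) = true := by decide +kernel
theorem hl_pow2_b5 : allR hl_pf2 2058 8 (5 * 2 ^ 8) = true := by decide +kernel
theorem hl_pow2_b6 : allR hl_pf2 2058 8 (6 * 2 ^ 8) = true := by decide +kernel
theorem hl_pow2_b7 : allR hl_pf2 2058 8 (7 * 2 ^ 8) = true := by decide +kernel
theorem hl_pow2_b8 : allR hl_pf2 2058 8 (8 * 2 ^ 8) = true := by decide +kernel
theorem hl_pow3_b0 : allR hl_pf3 2058 8 (0 * 2 ^ 8) = true := by decide +kernel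
theorem hl_pow3_b1 : allR hl_pf3 2058 8 (1 * 2 ^ 8) = true := by decide +kernel
theorem hl_pow3_b2 : allR hl_pf3 2058 8 (2 * 2 ^ 8) = true := by decide +kernel
theorem hl_pow3_b3 : allR hl_pf3 2058 8 (3 * 2 ^ 8) = true := by decide +kernel
theorem hl_pow3_b4 : allR hl_pf3 2058 8 (4 * 2 ^ 8) = true := by decide +kernel
theorem hl_pow3_b5 : allR hl_pf3 2058 8 (5 * 2 ^ 8) = true := by decide +kernel
theorem hl_pow3_b6 : allR hl_pf3 2058 8 (6 * 2 ^ 8) = true := by decide +kernel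
theorem hl_pow3_b7 : allR hl_pf3 2058 8 (7 * 2 ^ 8) = true := by decide +kernel
theorem hl_pow3_b8 : allR hl_pf3 2058 8 (8 * 2 ^ 8) = true := by decide +kernel

end Cfsg.Agent.H10.HeT
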