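import Cfsg.Agent.H10.HeT.LPow0
import Cfsg.Agent.H10.HeT.LPow1

set_option autoImplicit false
set_option linter.all false

namespace Cfsg.Agent.H10.HeT

open Cfsg.Agent.H35 Cfsg.Spor Cfsg.Agent.H10

theorem hl_pow0 : ∀ p, p < 2058 → hl_pf0 p = true := by
  apply allR_blocks hl_pf0 2058 8 9 _ (by decide)
  intro k hk
  interval_cases k
  · exact hl_pow0_b0
  · exact hl_pow0_b1
  · exact hl_pow0_b2
  · exact hl_pow0_b3
  · exact hl_pow0_b4
  · exact hl_pow0_b5
  · exact hl_pow0_b6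
  · exact hl_pow0_b7
  · exact hl_pow0_b8

theorem hl_pow1 : ∀ p, p < 2058 → hl_pf1 p = true := by
  apply allR_blocks hl_pf1 2058 8 9 _ (by decide)
  intro k hk
  interval_cases k
  · exact hl_pow1_b0
  · exact hl_pow1_b1
  · exact hl_pow1_b2
  · exact hl_pow1_b3
  · exact hl_pow1_b4
  · exact hl_pow1_b5
  · exact hl_pow1_b6
  · exact hl_pow1_b7
  · exact hl_pow1_b8

theorem hl_pow2 : ∀ p, p < 2058 → hl_pf2 p = true := by
  apply allR_blocks hl_pf2 2058 8 9 _ (by decide)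
  intro k hk
  interval_cases k
  · exact hl_pow2_b0
  · exact hl_pow2_b1
  · exact hl_pow2_b2
  · exact hl_pow2_b3
  · exact hl_pow2_b4
  · exact hl_pow2_b5
  · exact hl_pow2_b6
  · exact hl_pow2_b7
  · exact hl_pow2_b8

theorem hl_pow3 : ∀ p, p < 2058 → hl_pf3 p = true := by
  apply allR_blocks hl_pf3 2058 8 9 _ (by decide)
  intro k hk
  interval_cases k
  · exact hl_pow3_b0
  · exact hl_pow3_b1
  · exact hl_pow3_b2
  · exact hl_pow3_b3
  · exact hl_pow3_b4
  · exact hl_pow3_b5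
  · exact hl_pow3_b6
  · exact hl_pow3_b7
  · exact hl_pow3_b8

end Cfsg.Agent.H10.HeT
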