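import Cfsg.Agent.H10.HeT.Upper
import Cfsg.Agent.H10.HeT.LChk
import Cfsg.Agent.H10.HeT.LPow
import Cfsg.Agent.H35.T1683.RAll
import Cfsg.Agent.H35.T1683.PAll

/-!
# The presented Held group is simple of order 4030387200 (helper10)

Upper bound: `HeT/Upper.lean`.  Lower bound and faithfulness: stabiliser chain
`2058 * 1360 * 360 * 4` in helper35's permutation representation on the 2058 cosets of
`⟨a, c, d, e, f, (ab)^2, (bcde)^7⟩`.  Simplicity: the orbit of a normal subgroup is the base point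
with a union of the suborbits `1360, 425, 136, 136`, and its size divides `2058`, so it is
everything; then `7^3` divides the order of the normal subgroup, which therefore contains all
elements of order `7`, among them factors of `c` and of `d`.
-/

set_option autoImplicit false

namespace Cfsg.Agent.H10.HeT

open Cfsg.Agent.H35 Cfsg.Spor Cfsg.Agent.H10

/-- the subgroup of the enumeration on 2058 points -/
def Hp : Subgroup He := swGrp he_gen t1683_sw

theorem t1683_hsw : t1683_rsw = t1683_sw := by decide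

theorem perm_hyp : TCHyp he_gen Hp t1683_pd t1683_rd he_rws he_prels t1683_sw where
  UP := fun f hf h1 h2 => he_UP f hf h1 h2
  hP := by
    refine ⟨by decide, he_gens_all, ?_, t1683_psub⟩
    intro p hp
    have h : (t1683_pd.ptOK he_rws he_prels p && t1683_pd.orbOK t1683_sw t1683_roots p) = true :=
      t1683_pall p hp
    exact (Bool.and_eq_true_iff.mp h).1
  hy := by
    refine ⟨he_inv, he_gof_gi, by decide, fun p hp => wrapRow_of_le _ _ p hp, ?_, ?_,
      t1683_h0, by decide⟩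
    · exact circTab_valid he_gen he_inv _ he_full_one t1683_circT t1683_ccert t1683_circ_ok
    · refine hcTab_valid he_gen he_inv Hp t1683_rsw ?_ t1683_hc1T t1683_hc2T _
        (fun c hc => allR_sound _ _ _ 0 t1683_hc_ok c (Nat.zero_le _) (by omega) hc)
      intro w hw
      rw [t1683_hsw] at hw
      exact mem_swGrp _ _ w hw
  hgensR := he_gens_all
  hgen := he_closure
  hN := by decide
  hNM := by decide
  hNN := rfl
  hchk := t1683_rall
  hH := rfl

theorem hl_colf_lt (p : ℕ) : hl_colf p < 5 := by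
  unfold hl_colf
  cases Nat.ble 1 (fld 16 (hl_lab p) 0) <;> cases Nat.ble 1 (fld 16 (hl_lab p) 2) <;>
    cases Nat.ble 1 (fld 16 (hl_lab p) 4) <;> cases Nat.ble 1 (fld 16 (hl_lab p) 6) <;> decide

theorem hl_colf_1 (p : ℕ) (h : hl_colf p = 1) : Nat.ble 1 (fld 16 (hl_lab p) 0) = true := by
  unfold hl_colf at h
  revert h
  cases Nat.ble 1 (fld 16 (hl_lab p) 0) <;> cases Nat.ble 1 (fld 16 (hl_lab p) 2) <;>
    cases Nat.ble 1 (fld 16 (hl_lab p) 4) <;> cases Nat.ble 1 (fld 16 (hl_lab p) 6) <;> decide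

theorem hl_colf_2 (p : ℕ) (h : hl_colf p = 2) : Nat.ble 1 (fld 16 (hl_lab p) 2) = true := by
  unfold hl_colf at h
  revert h
  cases Nat.ble 1 (fld 16 (hl_lab p) 0) <;> cases Nat.ble 1 (fld 16 (hl_lab p) 2) <;>
    cases Nat.ble 1 (fld 16 (hl_lab p) 4) <;> cases Nat.ble 1 (fld 16 (hl_lab p) 6) <;> decide

theorem hl_colf_3 (p : ℕ) (h : hl_colf p = 3) : Nat.ble 1 (fld 16 (hl_lab p) 4) = true := by
  unfold hl_colf at h
  revert h
  cases Nat.ble 1 (fld 16 (hl_lab p) 0) <;> cases Nat.ble 1 (fld 16 (hl_lab p) 2) <;>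
    cases Nat.ble 1 (fld 16 (hl_lab p) 4) <;> cases Nat.ble 1 (fld 16 (hl_lab p) 6) <;> decide

theorem hl_colf_4 (p : ℕ) (h : hl_colf p = 4) : Nat.ble 1 (fld 16 (hl_lab p) 6) = true := by
  unfold hl_colf at h
  revert h
  cases Nat.ble 1 (fld 16 (hl_lab p) 0) <;> cases Nat.ble 1 (fld 16 (hl_lab p) 2) <;>
    cases Nat.ble 1 (fld 16 (hl_lab p) 4) <;> cases Nat.ble 1 (fld 16 (hl_lab p) 6) <;> decide

/-- the sizes of the colour classes -/
def he_cc (i : ℕ) : ℕ := [0, 1360, 425, 136, 136].getD i 0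

theorem he_key : ∀ I ∈ (Finset.range 5).powerset, 0 ∉ I → (1 + ∑ i ∈ I, he_cc i) ∣ 2058 →
    I = ∅ ∨ 1 + ∑ i ∈ I, he_cc i = 2058 := by decide

theorem gen_split (u : List He.Gen) (x : He.Gen) :
    he_gen x = uw he_gen u * uw he_gen (u.reverse ++ [x]) := by
  rw [uw_append, uw_reverse _ he_inv, uw_singleton, mul_inv_cancel_left]

theorem gen_edge (x y : He.Gen) : (he_gen x * he_gen y) ^ coxLabel He.edges x y = 1 :=
  he_sat.1 x y

theorem pw1_eq : hl_pw1 = hl_pw0.reverse ++ [.c] := by decide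

theorem pw3_eq : hl_pw3 = hl_pw2.reverse ++ [.d] := by decide

/-- the order and the simplicity of the presented Held group -/
theorem main : Nat.card He = 4030387200 ∧ IsSimpleGroup He := by
  have hN : 0 < t1683_pd.N := by decide
  obtain ⟨ρ, hw, hst, htr⟩ := tc_core perm_hyp hN
  have hfin : Finite He := top_bound.1
  let b1 : Fin t1683_pd.N := ⟨0, hN⟩
  let b2 : Fin t1683_pd.N := ⟨1, by decide⟩
  let b3 : Fin t1683_pd.N := ⟨15, by decide⟩
  let b4 : Fin t1683_pd.N := ⟨34, by decide⟩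
  let rB : Fin t1683_pd.N := ⟨2, by decide⟩
  let rC : Fin t1683_pd.N := ⟨46, by decide⟩
  let rD : Fin t1683_pd.N := ⟨65, by decide⟩
  let K2 : Subgroup He := ⊤ ⊓ stabOf ρ b1
  let K3 : Subgroup He := K2 ⊓ stabOf ρ b2
  let K4 : Subgroup He := K3 ⊓ stabOf ρ b3
  let K5 : Subgroup He := K4 ⊓ stabOf ρ b4
  have hstA : ∀ w ∈ hl_wsA, uw he_gen w ∈ stabOf ρ b1 := fun w hwm =>
    fixOK_mem he_gen ρ hw hl_wsA _ hl_fixA w hwm b1 (by show (0 : ℕ) ∈ _; decide)
  have hstB : ∀ w ∈ hl_wsB, uw he_gen w ∈ stabOf ρ b1 := fun w hwm =>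
    fixOK_mem he_gen ρ hw hl_wsB _ hl_fixB w hwm b1 (by show (0 : ℕ) ∈ _; decide)
  have hstC : ∀ w ∈ hl_wsC, uw he_gen w ∈ stabOf ρ b1 := fun w hwm =>
    fixOK_mem he_gen ρ hw hl_wsC _ hl_fixC w hwm b1 (by show (0 : ℕ) ∈ _; decide)
  have hstD : ∀ w ∈ hl_wsD, uw he_gen w ∈ stabOf ρ b1 := fun w hwm =>
    fixOK_mem he_gen ρ hw hl_wsD _ hl_fixD w hwm b1 (by show (0 : ℕ) ∈ _; decide)
  let OA : Finset (Fin t1683_pd.N) :=
    Finset.univ.filter (fun p : Fin t1683_pd.N => Nat.ble 1 (fld 16 (hl_lab p.val) 0) = true)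
  let OB : Finset (Fin t1683_pd.N) :=
    Finset.univ.filter (fun p : Fin t1683_pd.N => Nat.ble 1 (fld 16 (hl_lab p.val) 2) = true)
  let OC : Finset (Fin t1683_pd.N) :=
    Finset.univ.filter (fun p : Fin t1683_pd.N => Nat.ble 1 (fld 16 (hl_lab p.val) 4) = true)
  let OD : Finset (Fin t1683_pd.N) :=
    Finset.univ.filter (fun p : Fin t1683_pd.N => Nat.ble 1 (fld 16 (hl_lab p.val) 6) = true)
  have hOA : ∀ x ∈ OA, ∃ g ∈ stabOf ρ b1, ρ g b2 = x := fun x hx => by
    rw [Finset.mem_filter, Nat.ble_eq] at hx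
    exact lvl_orbit he_gen ρ hw (stabOf ρ b1) hl_lab 0 hl_wsA b2 hstA
      (allR_all _ _ 12 (by decide) hl_lvlA) _ x rfl hx.2
  have hOB : ∀ x ∈ OB, ∃ g ∈ stabOf ρ b1, ρ g rB = x := fun x hx => by
    rw [Finset.mem_filter, Nat.ble_eq] at hx
    exact lvl_orbit he_gen ρ hw (stabOf ρ b1) hl_lab 2 hl_wsB rB hstB
      (allR_all _ _ 12 (by decide) hl_lvlB) _ x rfl hx.2
  have hOC : ∀ x ∈ OC, ∃ g ∈ stabOf ρ b1, ρ g rC = x := fun x hx => by
    rw [Finset.mem_filter, Nat.ble_eq] at hx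
    exact lvl_orbit he_gen ρ hw (stabOf ρ b1) hl_lab 4 hl_wsC rC hstC
      (allR_all _ _ 12 (by decide) hl_lvlC) _ x rfl hx.2
  have hOD : ∀ x ∈ OD, ∃ g ∈ stabOf ρ b1, ρ g rD = x := fun x hx => by
    rw [Finset.mem_filter, Nat.ble_eq] at hx
    exact lvl_orbit he_gen ρ hw (stabOf ρ b1) hl_lab 6 hl_wsD rD hstD
      (allR_all _ _ 12 (by decide) hl_lvlD) _ x rfl hx.2
  have hcA : OA.card = 1360 := by
    rw [card_filter_fin (fun i => Nat.ble 1 (fld 16 (hl_lab i) 0)) t1683_pd.N 12 (by decide)]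
    exact hl_cntA
  have s1 : 2058 * Nat.card K2 ≤ Nat.card (⊤ : Subgroup He) := by
    have := level_step ρ ⊤ b1 Finset.univ (fun x _ => by
      obtain ⟨g, hg⟩ := htr x
      exact ⟨g, Subgroup.mem_top g, hg⟩)
    rw [Finset.card_univ, Fintype.card_fin] at this
    exact this
  have s2 : 1360 * Nat.card K3 ≤ Nat.card K2 := by
    have := level_step ρ K2 b2 OA (fun x hx => by
      obtain ⟨g, hg, e⟩ := hOA x hx
      exact ⟨g, ⟨Subgroup.mem_top g, hg⟩, e⟩)
    rw [hcA] at this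
    exact this
  have hK3 : ∀ w ∈ hl_ws3, uw he_gen w ∈ K3 := fun w hwm =>
    ⟨⟨Subgroup.mem_top _, fixOK_mem he_gen ρ hw hl_ws3 _ hl_fix3 w hwm b1 (by show (0 : ℕ) ∈ _; decide)⟩,
      fixOK_mem he_gen ρ hw hl_ws3 _ hl_fix3 w hwm b2 (by decide)⟩
  have s3 : 360 * Nat.card K4 ≤ Nat.card K3 := by
    have := level_step ρ K3 b3
      (Finset.univ.filter (fun p : Fin t1683_pd.N => Nat.ble 1 (fld 16 (hl_lab p.val) 8) = true))
      (fun x hx => by
        rw [Finset.mem_filter, Nat.ble_eq] at hx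
        exact lvl_orbit he_gen ρ hw K3 hl_lab 8 hl_ws3 b3 hK3
          (allR_all _ _ 12 (by decide) hl_lvl3) _ x rfl hx.2)
    rw [card_filter_fin (fun i => Nat.ble 1 (fld 16 (hl_lab i) 8)) t1683_pd.N 12 (by decide)] at this
    rw [show cntR (fun i => Nat.ble 1 (fld 16 (hl_lab i) 8)) t1683_pd.N 12 0 = 360 from hl_cnt3]
      at this
    exact this
  have hK4 : ∀ w ∈ hl_ws4, uw he_gen w ∈ K4 := fun w hwm =>
    ⟨⟨⟨Subgroup.mem_top _, fixOK_mem he_gen ρ hw hl_ws4 _ hl_fix4 w hwm b1 (by show (0 : ℕ) ∈ _; decide)⟩,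
      fixOK_mem he_gen ρ hw hl_ws4 _ hl_fix4 w hwm b2 (by decide)⟩,
      fixOK_mem he_gen ρ hw hl_ws4 _ hl_fix4 w hwm b3 (by decide)⟩
  have s4 : 4 * Nat.card K5 ≤ Nat.card K4 := by
    have := level_step ρ K4 b4
      (Finset.univ.filter (fun p : Fin t1683_pd.N => Nat.ble 1 (fld 16 (hl_lab p.val) 10) = true))
      (fun x hx => by
        rw [Finset.mem_filter, Nat.ble_eq] at hx
        exact lvl_orbit he_gen ρ hw K4 hl_lab 10 hl_ws4 b4 hK4
          (allR_all _ _ 12 (by decide) hl_lvl4) _ x rfl hx.2)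
    rw [card_filter_fin (fun i => Nat.ble 1 (fld 16 (hl_lab i) 10)) t1683_pd.N 12 (by decide)] at this
    rw [show cntR (fun i => Nat.ble 1 (fld 16 (hl_lab i) 10)) t1683_pd.N 12 0 = 4 from hl_cnt4]
      at this
    exact this
  have hKpos : 0 < Nat.card K5 := Nat.card_pos
  have htop : Nat.card (⊤ : Subgroup He) = Nat.card He := Subgroup.card_top
  have hub := top_bound.2
  have hcard : Nat.card He = 4030387200 := by omega
  have hKone : Nat.card K5 = 1 := by omega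
  have hinj : ∀ g : He, ρ g = 1 → g = 1 := by
    intro g hg
    have hmem : g ∈ K5 := by
      have hfix : ∀ b : Fin t1683_pd.N, g ∈ stabOf ρ b := fun b => by
        rw [mem_stabOf, hg]; rfl
      exact ⟨⟨⟨⟨Subgroup.mem_top g, hfix b1⟩, hfix b2⟩, hfix b3⟩, hfix b4⟩
    have hbot : K5 = ⊥ := Subgroup.card_eq_one.mp hKone
    rw [hbot, Subgroup.mem_bot] at hmem
    exact hmem
  refine ⟨hcard, ?_⟩
  have hp0 : uw he_gen hl_pw0 ^ 7 = 1 := hinj _ (by
    rw [map_pow]
    exact powCol_sound he_gen ρ hw hl_col 0 7 hl_pw0 (fun p hp => hl_pow0 p hp))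
  have hp1 : uw he_gen hl_pw1 ^ 7 = 1 := hinj _ (by
    rw [map_pow]
    exact powCol_sound he_gen ρ hw hl_col 1 7 hl_pw1 (fun p hp => hl_pow1 p hp))
  have hp2 : uw he_gen hl_pw2 ^ 7 = 1 := hinj _ (by
    rw [map_pow]
    exact powCol_sound he_gen ρ hw hl_col 2 7 hl_pw2 (fun p hp => hl_pow2 p hp))
  have hp3 : uw he_gen hl_pw3 ^ 7 = 1 := hinj _ (by
    rw [map_pow]
    exact powCol_sound he_gen ρ hw hl_col 3 7 hl_pw3 (fun p hp => hl_pow3 p hp))
  have hnp : ¬ 7 ^ (3 + 1) ∣ Nat.card He := by rw [hcard]; norm_num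
  have : Fact (Nat.Prime 7) := ⟨by norm_num⟩
  have hnt : Nontrivial He := by
    rw [← Finite.one_lt_card_iff_nontrivial, hcard]; norm_num
  refine @IsSimpleGroup.mk _ _ hnt ?_
  intro N hNn
  rcases normal_le_or_relIndex ρ b1 htr 0 (fun ω _ => ⟨∅, Nat.zero_le _, by simp, by simp⟩) N
    with hle | ⟨_, hk2, hk3⟩
  · left
    exact normal_le_stab_eq_bot ρ hinj b1 htr N hle
  -- the colour classes
  have hne : ∀ ω : Fin t1683_pd.N, ω ≠ b1 → hl_colf ω.val ≠ 0 := by
    intro ω hω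
    have hc := allR_all _ _ 12 (by decide) hl_colne ω.val ω.isLt
    rw [Bool.or_eq_true, Nat.beq_eq, Nat.ble_eq] at hc
    rcases hc with hc | hc
    · exact absurd (Fin.ext hc) hω
    · omega
  have horb : ∀ x y : Fin t1683_pd.N, hl_colf x.val = hl_colf y.val → hl_colf x.val ≠ 0 →
      ∃ h ∈ stabOf ρ b1, ρ h x = y := by
    intro x y hxy hx0
    have hlt := hl_colf_lt x.val
    have h4 : hl_colf x.val = 1 ∨ hl_colf x.val = 2 ∨ hl_colf x.val = 3 ∨ hl_colf x.val = 4 := by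
      omega
    rcases h4 with h | h | h | h
    · exact orbit_family ρ _ OA b2 hOA x
        (Finset.mem_filter.mpr ⟨Finset.mem_univ _, hl_colf_1 _ h⟩) y
        (Finset.mem_filter.mpr ⟨Finset.mem_univ _, hl_colf_1 _ (hxy ▸ h)⟩)
    · exact orbit_family ρ _ OB rB hOB x
        (Finset.mem_filter.mpr ⟨Finset.mem_univ _, hl_colf_2 _ h⟩) y
        (Finset.mem_filter.mpr ⟨Finset.mem_univ _, hl_colf_2 _ (hxy ▸ h)⟩)
    · exact orbit_family ρ _ OC rC hOC x
        (Finset.mem_filter.mpr ⟨Finset.mem_univ _, hl_colf_3 _ h⟩) y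
        (Finset.mem_filter.mpr ⟨Finset.mem_univ _, hl_colf_3 _ (hxy ▸ h)⟩)
    · exact orbit_family ρ _ OD rD hOD x
        (Finset.mem_filter.mpr ⟨Finset.mem_univ _, hl_colf_4 _ h⟩) y
        (Finset.mem_filter.mpr ⟨Finset.mem_univ _, hl_colf_4 _ (hxy ▸ h)⟩)
  obtain ⟨I, hI1, hI0, hIk⟩ := normal_orbit_colors ρ b1 (fun p => hl_colf p.val) 5
    (fun x => hl_colf_lt _) hl_col0 hne horb N
  have hcnt : ∀ (i c : ℕ), cntR (fun p => Nat.beq (hl_colf p) i) t1683_pd.N 12 0 = c →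
      (Finset.univ.filter (fun x : Fin t1683_pd.N => hl_colf x.val = i)).card = c := by
    intro i c hc
    rw [← hc, ← card_filter_fin (fun p => Nat.beq (hl_colf p) i) t1683_pd.N 12 (by decide)]
    exact congrArg Finset.card (Finset.filter_congr (fun x _ => by rw [Nat.beq_eq]))
  have hsum : ∑ i ∈ I, (Finset.univ.filter (fun x : Fin t1683_pd.N => hl_colf x.val = i)).card =
      ∑ i ∈ I, he_cc i := by
    apply Finset.sum_congr rfl
    intro i hi
    have h5 := Finset.mem_range.mp (hI1 hi)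
    have h0 : i ≠ 0 := fun h => hI0 (h ▸ hi)
    interval_cases i
    · exact absurd rfl h0
    · exact hcnt 1 1360 hl_colcnt1
    · exact hcnt 2 425 hl_colcnt2
    · exact hcnt 3 136 hl_colcnt3
    · exact hcnt 4 136 hl_colcnt4
  rw [hsum] at hIk
  have hk2' : (stabOf ρ b1).relIndex N ∣ 2058 := hk2
  rcases he_key I (Finset.mem_powerset.mpr hI1) hI0 (hIk ▸ hk2') with hI | hk
  · left
    have h1 : (stabOf ρ b1).relIndex N = 1 := by rw [hIk, hI]; rfl
    exact normal_le_stab_eq_bot ρ hinj b1 htr N (Subgroup.relIndex_eq_one.mp h1)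
  · right
    have hkN : 2058 ∣ Nat.card N := by rw [← hk, ← hIk]; exact hk3
    have h7 : 7 ^ 3 ∣ Nat.card N := Dvd.dvd.trans (by norm_num) hkN
    have hmem : ∀ a : He, a ^ 7 = 1 → a ∈ N := fun a ha =>
      mem_normal_of_pow_prime_pow 7 3 hnp N h7 a ha
    have hc : he_gen .c ∈ N := by
      rw [gen_split hl_pw0 .c, ← pw1_eq]
      exact N.mul_mem (hmem _ hp0) (hmem _ hp1)
    have hd : he_gen .d ∈ N := by
      rw [gen_split hl_pw2 .d, ← pw3_eq]
      exact N.mul_mem (hmem _ hp2) (hmem _ hp3)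
    have hb : he_gen .b ∈ N :=
      mem_normal_of_odd_edge N _ _ 1 (he_inv .b) (gen_edge .c .b) hc
    have he' : he_gen .e ∈ N :=
      mem_normal_of_odd_edge N _ _ 1 (he_inv .e) (gen_edge .d .e) hd
    have hf : he_gen .f ∈ N :=
      mem_normal_of_odd_edge N _ _ 1 (he_inv .f) (gen_edge .d .f) hd
    have hg : he_gen .g ∈ N :=
      mem_normal_of_odd_edge N _ _ 1 (he_inv .g) (gen_edge .d .g) hd
    have ha : he_gen .a ∈ N := by
      have h := (he_list_of_sat _ he_sat).1 ([.a, .d, .c, .d, .c, .d], [.c, .d, .c, .d, .c])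
        (by decide)
      have h2 : he_gen .a * uw he_gen [.d, .c, .d, .c, .d, .c, .d, .c, .d, .c] = 1 := h
      rw [eq_inv_of_mul_eq_one_left h2]
      apply N.inv_mem
      apply uw_mem_of_all he_gen N
      intro x hx
      have hx' : ∀ y ∈ ([.d, .c, .d, .c, .d, .c, .d, .c, .d, .c] : List He.Gen),
          y = .d ∨ y = .c := by decide
      rcases hx' x hx with rfl | rfl
      · exact hd
      · exact hc
    rw [eq_top_iff, ← he_closure, Subgroup.closure_le]
    rintro _ ⟨x, rfl⟩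
    cases x <;> assumption

end Cfsg.Agent.H10.HeT
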