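import Cfsg.Agent.H10.Tower
import Cfsg.Agent.H35.HeGlue

/-!
# He: sub-presentations (helper10; generated)
-/

set_option autoImplicit false

namespace Cfsg.Agent.H10.HeT

open Cfsg.Agent.H35 Cfsg.Spor

def hb_rws : List (List He.Gen × List He.Gen) := [
  ([.a], [.a]),
  ([.a, .b, .a, .b], [.b, .a, .b, .a]),
  ([.a, .c], [.c, .a]),
  ([.a, .d], [.d, .a]),
  ([.a, .e], [.e, .a]),
  ([.b, .a, .b, .a], [.a, .b, .a, .b]),
  ([.b], [.b]),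
  ([.b, .c, .b], [.c, .b, .c]),
  ([.b, .d], [.d, .b]),
  ([.b, .e], [.e, .b]),
  ([.c, .a], [.a, .c]),
  ([.c, .b, .c], [.b, .c, .b]),
  ([.c], [.c]),
  ([.c, .d, .c, .d, .c, .d, .c, .d, .c, .d], [.d, .c, .d, .c, .d, .c, .d, .c, .d, .c]),
  ([.c, .e], [.e, .c]),
  ([.d, .a], [.a, .d]),
  ([.d, .b], [.b, .d]),
  ([.d, .c, .d, .c, .d, .c, .d, .c, .d, .c], [.c, .d, .c, .d, .c, .d, .c, .d, .c, .d]),
  ([.d], [.d]),
  ([.d, .e, .d], [.e, .d, .e]),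
  ([.e, .a], [.a, .e]),
  ([.e, .b], [.b, .e]),
  ([.e, .c], [.c, .e]),
  ([.e, .d, .e], [.d, .e, .d]),
  ([.e], [.e]),
  ([.e, .c, .b, .a, .c], [.a, .b, .c, .a, .b]),
  ([.a, .d, .c, .d, .c, .d], [.c, .d, .c, .d, .c]),
  ([.f], []),
  ([.g], [])]
def hb_prels : List (List He.Gen × ℕ × ℕ) := [
]
def hb_S (x : He.Gen) : Bool := decide (x ∈ ([.a, .b, .c, .d, .e] : List He.Gen))

def h1_rws : List (List He.Gen × List He.Gen) := [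
  ([.a], [.a]),
  ([.a, .c], [.c, .a]),
  ([.a, .d], [.d, .a]),
  ([.a, .e], [.e, .a]),
  ([.c, .a], [.a, .c]),
  ([.c], [.c]),
  ([.c, .d, .c, .d, .c, .d, .c, .d, .c, .d], [.d, .c, .d, .c, .d, .c, .d, .c, .d, .c]),
  ([.c, .e], [.e, .c]),
  ([.d, .a], [.a, .d]),
  ([.d, .c, .d, .c, .d, .c, .d, .c, .d, .c], [.c, .d, .c, .d, .c, .d, .c, .d, .c, .d]),
  ([.d], [.d]),
  ([.d, .e, .d], [.e, .d, .e]),
  ([.e, .a], [.a, .e]),
  ([.e, .c], [.c, .e]),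
  ([.e, .d, .e], [.d, .e, .d]),
  ([.e], [.e]),
  ([.a, .d, .c, .d, .c, .d], [.c, .d, .c, .d, .c]),
  ([.c, .d, .c, .d, .e, .d, .c, .d], [.e, .d, .c, .d, .e, .d, .c]),
  ([.b], []),
  ([.f], []),
  ([.g], [])]
def h1_prels : List (List He.Gen × ℕ × ℕ) := [
]
def h1_S (x : He.Gen) : Bool := decide (x ∈ ([.a, .c, .d, .e] : List He.Gen))

def h2_rws : List (List He.Gen × List He.Gen) := [
  ([.a], [.a]),
  ([.a, .c], [.c, .a]),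
  ([.a, .d], [.d, .a]),
  ([.a, .e], [.e, .a]),
  ([.a, .f], [.f, .a]),
  ([.a, .g], [.g, .a]),
  ([.c, .a], [.a, .c]),
  ([.c], [.c]),
  ([.c, .d, .c, .d, .c, .d, .c, .d, .c, .d], [.d, .c, .d, .c, .d, .c, .d, .c, .d, .c]),
  ([.c, .e], [.e, .c]),
  ([.c, .f], [.f, .c]),
  ([.c, .g], [.g, .c]),
  ([.d, .a], [.a, .d]),
  ([.d, .c, .d, .c, .d, .c, .d, .c, .d, .c], [.c, .d, .c, .d, .c, .d, .c, .d, .c, .d]),
  ([.d], [.d]),
  ([.d, .e, .d], [.e, .d, .e]),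
  ([.d, .f, .d], [.f, .d, .f]),
  ([.d, .g, .d], [.g, .d, .g]),
  ([.e, .a], [.a, .e]),
  ([.e, .c], [.c, .e]),
  ([.e, .d, .e], [.d, .e, .d]),
  ([.e], [.e]),
  ([.e, .f], [.f, .e]),
  ([.e, .g], [.g, .e]),
  ([.f, .a], [.a, .f]),
  ([.f, .c], [.c, .f]),
  ([.f, .d, .f], [.d, .f, .d]),
  ([.f, .e], [.e, .f]),
  ([.f], [.f]),
  ([.f, .g, .f, .g], [.g, .f, .g, .f]),
  ([.g, .a], [.a, .g]),
  ([.g, .c], [.c, .g]),
  ([.g, .d, .g], [.d, .g, .d]),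
  ([.g, .e], [.e, .g]),
  ([.g, .f, .g, .f], [.f, .g, .f, .g]),
  ([.g], [.g]),
  ([.e, .g, .f], [.f, .g]),
  ([.a, .d, .c, .d, .c, .d], [.c, .d, .c, .d, .c]),
  ([.c, .d, .c, .d, .e, .d, .c, .d], [.e, .d, .c, .d, .e, .d, .c]),
  ([.b], [])]
def h2_prels : List (List He.Gen × ℕ × ℕ) := [
  ([.c, .d, .f, .g], 4, 9)]
def h2_S (x : He.Gen) : Bool := decide (x ∈ ([.a, .c, .d, .e, .f, .g] : List He.Gen))

/-- the extra relator (a consequence of the relators among `a, …, e`) -/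
def he_rword : List He.Gen := [.c, .d, .c, .d, .e, .d, .c, .d, .c, .d, .e, .d, .c, .d, .e]
def he_rwsx : List (List He.Gen × List He.Gen) := he_rws ++ [([.c, .d, .c, .d, .e, .d, .c, .d], [.e, .d, .c, .d, .e, .d, .c])]

end Cfsg.Agent.H10.HeT
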