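import Cfsg.Agent.H10.HeT.HB.RAll
import Cfsg.Agent.H10.HeT.H1.RAll
import Cfsg.Agent.H10.HeT.H2.RAll
import Cfsg.Agent.H10.HeT.HT.RAll
import Cfsg.Agent.H10.Block

/-!
# He: upper bound for the order (helper10; generated)

Tower `120 * 672 * 49980`: the group on `a, c, d, e` with the extra relator, the group on
`a, c, d, e, f, g` with the extra relator, and He over `⟨a, c, d, e, f, g⟩`.  The extra relator
holds in He because it holds in the group presented on `a, …, e` (order 15120), where the
replay table over the trivial subgroup solves the word problem.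
-/

set_option autoImplicit false

namespace Cfsg.Agent.H10.HeT

open Cfsg.Agent.H35 Cfsg.Spor Cfsg.Agent.H10

theorem hb_rsw_nil : hb_rsw = [] := rfl

theorem hb_hyp : RHyp hb_rd (swGrp (wgGen hb_rws hb_prels) ([] : List (List He.Gen))) (wgGen hb_rws hb_prels) := by
  have hy : RHyp hb_rd (swGrp (wgGen hb_rws hb_prels) hb_rsw) (wgGen hb_rws hb_prels) := by
    refine ⟨wg_inv _ _, he_gof_gi, by decide, fun p hp => wrapRow_of_le _ _ p hp, ?_, ?_,
      hb_h0, by decide⟩
    · exact circTab_valid _ (wg_inv _ _) _ (wg_full_one _ _) hb_circT hb_ccert hb_circ_ok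
    · exact hcTab_valid _ (wg_inv _ _) _ hb_rsw
        (fun w hw => mem_swGrp _ _ w hw) hb_hc1T hb_hc2T _
        (fun c hc => allR_sound _ _ _ 0 hb_hc_ok c (Nat.zero_le _) (by omega) hc)
  exact hy

theorem hb_rword_ok : hb_rd.walkU 0 he_rword 0 = 0 := by decide +kernel

/-- the extra relator holds in the group presented on `a, …, e` -/
theorem hb_rel : uw (wgGen hb_rws hb_prels) he_rword = 1 :=
  replay_word_one hb_hyp he_gens_all hb_rall he_rword hb_rword_ok

/-- the extra relator holds in He -/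
theorem he_rel : uw he_gen he_rword = 1 := by
  obtain ⟨φ, hφ⟩ := sub_hom hb_S he_gen he_inv he_rws he_prels
    hb_rws hb_prels (he_list_of_sat _ he_sat).1 (he_list_of_sat _ he_sat).2 (by decide)
  have h2 := hom_uw_of_all he_gen (wgGen hb_rws hb_prels) hb_S φ hφ he_rword (by decide)
  rw [← h2, hb_rel, map_one]

theorem he_rwsx_sat : ∀ r ∈ he_rwsx, uw he_gen (r.1 ++ r.2.reverse) = 1 := by
  intro r hr
  unfold he_rwsx at hr
  rw [List.mem_append] at hr
  rcases hr with hr | hr
  · exact (he_list_of_sat _ he_sat).1 r hr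
  · rw [List.mem_singleton] at hr
    subst hr
    exact he_rel

theorem h1_bound : Finite (WG h1_rws h1_prels) ∧ Nat.card (WG h1_rws h1_prels) ≤ 120 := by
  have hy : RHyp h1_rd (swGrp (wgGen h1_rws h1_prels) h1_rsw) (wgGen h1_rws h1_prels) := by
    refine ⟨(wg_inv _ _), he_gof_gi, by decide, fun p hp => wrapRow_of_le _ _ p hp, ?_, ?_,
      h1_h0, by decide⟩
    · exact circTab_valid _ (wg_inv _ _) _ (wg_full_one _ _) h1_circT h1_ccert h1_circ_ok
    · exact hcTab_valid _ (wg_inv _ _) _ h1_rsw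
        (fun w hw => mem_swGrp _ _ w hw) h1_hc1T h1_hc2T _
        (fun c hc => allR_sound _ _ _ 0 h1_hc_ok c (Nat.zero_le _) (by omega) hc)
  have hb := replay_bound hy he_gens_all (wg_closure _ _) (by decide) (by decide) h1_rall
  exact card_le_of_trivial (wgGen h1_rws h1_prels) 120 hb

theorem h2_bound : Finite (WG h2_rws h2_prels) ∧ Nat.card (WG h2_rws h2_prels) ≤ 672 * 120 := by
  have hy : RHyp h2_rd (swGrp (wgGen h2_rws h2_prels) h2_rsw) (wgGen h2_rws h2_prels) := by
    refine ⟨(wg_inv _ _), he_gof_gi, by decide, fun p hp => wrapRow_of_le _ _ p hp, ?_, ?_,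
      h2_h0, by decide⟩
    · exact circTab_valid _ (wg_inv _ _) _ (wg_full_one _ _) h2_circT h2_ccert h2_circ_ok
    · exact hcTab_valid _ (wg_inv _ _) _ h2_rsw
        (fun w hw => mem_swGrp _ _ w hw) h2_hc1T h2_hc2T _
        (fun c hc => allR_sound _ _ _ 0 h2_hc_ok c (Nat.zero_le _) (by omega) hc)
  have hb := replay_bound hy he_gens_all (wg_closure _ _) (by decide) (by decide) h2_rall
  obtain ⟨φ, hφ⟩ := sub_hom h1_S (wgGen h2_rws h2_prels) (wg_inv _ _) h2_rws h2_prels
    h1_rws h1_prels (wg_rws _ _) (wg_prels _ _) (by decide)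
  have := h1_bound.1
  exact card_le_tower _ 672 hb φ
    (swGrp_le_range _ (wgGen h1_rws h1_prels) h1_S φ hφ h2_rsw (by decide)) _ h1_bound.2

/-- the subgroup of the top enumeration -/
def Ht : Subgroup He := swGrp he_gen ht_rsw

theorem top_bound : Finite He ∧ Nat.card He ≤ 4030387200 := by
  have hy : RHyp ht_rd Ht he_gen := by
    refine ⟨he_inv, he_gof_gi, by decide, fun p hp => wrapRow_of_le _ _ p hp, ?_, ?_,
      ht_h0, by decide⟩
    · exact circTab_valid _ he_inv _ he_full_one ht_circT ht_ccert ht_circ_ok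
    · exact hcTab_valid _ he_inv _ ht_rsw
        (fun w hw => mem_swGrp _ _ w hw) ht_hc1T ht_hc2T _
        (fun c hc => allR_sound _ _ _ 0 ht_hc_ok c (Nat.zero_le _) (by omega) hc)
  have hb := replay_bound hy he_gens_all he_closure (by decide) (by decide) ht_rall
  obtain ⟨φ, hφ⟩ := sub_hom h2_S he_gen he_inv he_rwsx he_prels
    h2_rws h2_prels he_rwsx_sat (he_list_of_sat _ he_sat).2 (by decide)
  have := h2_bound.1
  have := card_le_tower Ht 49980 hb φ
    (swGrp_le_range _ (wgGen h2_rws h2_prels) h2_S φ hφ ht_rsw (by decide)) _ h2_bound.2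
  exact this

end Cfsg.Agent.H10.HeT
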